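import Mathlib

/-!
Tame Kummer extensions of a henselian DVR with algebraically closed residue field.
-/

set_option autoImplicit false
universe u

namespace Groth.Agent.TameRam

open Polynomial IsLocalRing

variable {R : Type u} [CommRing R] [HenselianLocalRing R]

theorem exists_root_near (n : ℕ) (hn : n ≠ 0) (hn' : IsUnit (n : R)) (u w : R) (hu : IsUnit u)
    (hw : w ^ n - u ∈ maximalIdeal R) : ∃ v : R, v ^ n = u ∧ v - w ∈ maximalIdeal R := by
  have hwu : IsUnit w := by
    by_contra h
    have hw' : w ∈ maximalIdeal R := h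
    have := sub_mem (Ideal.pow_mem_of_mem _ hw' n (Nat.pos_of_ne_zero hn)) hw
    rw [sub_sub_cancel] at this
    exact this hu
  obtain ⟨v, hv, hvw⟩ := HenselianLocalRing.is_henselian (X ^ n - C u) (monic_X_pow_sub_C u hn) w
    (by simpa using hw) (by simpa [derivative_X_pow, hn'] using hwu.pow (n - 1))
  exact ⟨v, by simpa [IsRoot, sub_eq_zero] using hv, hvw⟩

variable [IsAlgClosed (ResidueField R)]

theorem exists_root_unit (n : ℕ) (hn : n ≠ 0) (hn' : IsUnit (n : R)) (u : R) (hu : IsUnit u) :
    ∃ v : R, v ^ n = u := by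
  obtain ⟨z, hz⟩ := IsAlgClosed.exists_pow_nat_eq (residue R u) (Nat.pos_of_ne_zero hn)
  obtain ⟨w, rfl⟩ := residue_surjective z
  obtain ⟨v, hv, -⟩ := exists_root_near n hn hn' u w hu (by
    rw [← residue_eq_zero_iff, map_sub, map_pow, hz, sub_self])
  exact ⟨v, hv⟩

theorem exists_primitiveRoot (n : ℕ) (hn : n ≠ 0) (hn' : IsUnit (n : R)) :
    ∃ ζ : R, IsPrimitiveRoot ζ n := by
  haveI : NeZero (n : ResidueField R) := ⟨by
    rw [← map_natCast (residue R)]
    exact (hn'.map (residue R)).ne_zero⟩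
  obtain ⟨z, hz⟩ := HasEnoughRootsOfUnity.exists_primitiveRoot (ResidueField R) n
  obtain ⟨w, rfl⟩ := residue_surjective z
  obtain ⟨v, hv, hvw⟩ := exists_root_near n hn hn' 1 w isUnit_one (by
    rw [← residue_eq_zero_iff, map_sub, map_pow, hz.pow_eq_one, map_one, sub_self])
  have hres : residue R v = residue R w := by
    rw [← sub_eq_zero, ← map_sub, residue_eq_zero_iff]; exact hvw
  exact ⟨v, hv, fun l hl => hz.dvd_of_pow_eq_one l (by rw [← hres, ← map_pow, hl, map_one])⟩

section DVR

variable {O : Type u} [CommRing O] [IsDomain O] [IsDiscreteValuationRing O] (K : Type u) [Field K] [Algebra O K]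
  [IsFractionRing O K]

theorem irreducible_map_of_isEisensteinAt (f : O[X]) (hmon : f.Monic) (hdeg : 0 < f.natDegree)
    (hf : f.IsEisensteinAt (maximalIdeal O)) : Irreducible (f.map (algebraMap O K)) :=
  (hmon.isPrimitive.irreducible_iff_irreducible_map_fraction_map).1
    (hf.irreducible (maximalIdeal.isMaximal O).isPrime hmon.isPrimitive hdeg)

theorem irreducible_X_pow_sub_uniformizer (ϖ : O) (hϖ : Irreducible ϖ) (n : ℕ) (hn : n ≠ 0) :
    Irreducible (X ^ n - C (algebraMap O K ϖ) : K[X]) := by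
  have h := irreducible_map_of_isEisensteinAt K (X ^ n - C ϖ) (monic_X_pow_sub_C ϖ hn)
    (by rw [natDegree_X_pow_sub_C]; omega) ?_
  · simpa using h
  · refine (monic_X_pow_sub_C ϖ hn).isEisensteinAt_of_mem_of_notMem (maximalIdeal.isMaximal O).ne_top ?_ ?_
    · intro i hi
      rw [natDegree_X_pow_sub_C] at hi
      rw [coeff_sub, coeff_X_pow, if_neg (by omega), zero_sub, neg_mem_iff, coeff_C]
      split_ifs
      · exact hϖ.1
      · exact zero_mem _
    · rw [coeff_sub, coeff_X_pow, if_neg (Ne.symm hn), zero_sub, neg_mem_iff, coeff_C, if_pos rfl,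
        hϖ.maximalIdeal_eq, Ideal.span_singleton_pow, Ideal.mem_span_singleton]
      rintro ⟨c, hc⟩
      exact hϖ.1 (IsUnit.of_mul_eq_one c (mul_left_cancel₀ hϖ.ne_zero (by rw [mul_one, ← mul_assoc, ← pow_two, ← hc])))

variable [HenselianLocalRing O] [IsAlgClosed (ResidueField O)]

theorem primitiveRoots_nonempty (n : ℕ) (hn : n ≠ 0) (hn' : IsUnit (n : O)) :
    (primitiveRoots n K).Nonempty := by
  obtain ⟨ζ, hζ⟩ := exists_primitiveRoot n hn hn'
  exact ⟨algebraMap O K ζ, (mem_primitiveRoots (Nat.pos_of_ne_zero hn)).2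
    (hζ.map_of_injective (IsFractionRing.injective O K))⟩

variable {L : Type u} [Field L] [Algebra K L]

/-- The subfield generated by an `n`-th root of a uniformizer. -/
theorem finrank_and_normal_adjoin (ϖ : O) (hϖ : Irreducible ϖ) (n : ℕ) (hn : n ≠ 0) (hn' : IsUnit (n : O))
    (β : L) (hβ : β ^ n = algebraMap K L (algebraMap O K ϖ)) :
    Module.finrank K (IntermediateField.adjoin K {β}) = n ∧
      IsCyclic Gal((IntermediateField.adjoin K {β})/K) ∧ Normal K (IntermediateField.adjoin K {β}) := by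
  classical
  haveI : NeZero n := ⟨hn⟩
  have hζ := primitiveRoots_nonempty K n hn hn'
  have H := irreducible_X_pow_sub_uniformizer K ϖ hϖ n hn
  obtain ⟨ζ, hζ'⟩ := hζ
  have hζ'' : IsPrimitiveRoot ζ n := (mem_primitiveRoots (Nat.pos_of_ne_zero hn)).1 hζ'
  haveI : IsSplittingField K (IntermediateField.adjoin K {β}) (X ^ n - C (algebraMap O K ϖ)) := by
    rw [IntermediateField.isSplittingField_iff]
    refine ⟨?_, le_antisymm (IntermediateField.adjoin_simple_le_iff.2 (IntermediateField.subset_adjoin _ _ ?_))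
      (IntermediateField.adjoin_le_iff.2 fun y hy => ?_)⟩
    · rw [Polynomial.map_sub, Polynomial.map_pow, map_X, map_C]
      exact X_pow_sub_C_splits_of_isPrimitiveRoot
        (hζ''.map_of_injective (algebraMap K (IntermediateField.adjoin K {β})).injective)
        (α := (⟨β, IntermediateField.mem_adjoin_simple_self K β⟩ : IntermediateField.adjoin K {β})) (Subtype.ext hβ)
    · rw [Polynomial.mem_rootSet_of_ne (X_pow_sub_C_ne_zero (Nat.pos_of_ne_zero hn) _)]
      simp [hβ]
    · rw [Polynomial.mem_rootSet_of_ne (X_pow_sub_C_ne_zero (Nat.pos_of_ne_zero hn) _)] at hy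
      simp only [map_sub, map_pow, aeval_X, aeval_C, sub_eq_zero] at hy
      have hβ0 : β ≠ 0 := fun h => hϖ.ne_zero (IsFractionRing.injective O K ((algebraMap K L).injective (by
        rw [← hβ, h, zero_pow hn, map_zero, map_zero])))
      obtain ⟨i, -, hi⟩ := (hζ''.map_of_injective (algebraMap K L).injective).eq_pow_of_pow_eq_one
        (ξ := y / β) (by rw [div_pow, hy, ← hβ, div_self (pow_ne_zero _ hβ0)])
      rw [show y = algebraMap K L ζ ^ i * β by rw [hi]; field_simp]
      exact mul_mem (pow_mem (IntermediateField.algebraMap_mem _ ζ) i) (IntermediateField.mem_adjoin_simple_self K β)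
  exact ⟨finrank_of_isSplittingField_X_pow_sub_C ⟨ζ, hζ'⟩ H _,
    isCyclic_of_isSplittingField_X_pow_sub_C ⟨ζ, hζ'⟩ H _,
    Normal.of_isSplittingField (X ^ n - C (algebraMap O K ϖ))⟩

end DVR

end Groth.Agent.TameRam
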